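import Groth.Agent.Lib.AssFlat15.Scheme
import Groth.Agent.Lib.AssPts11.Basic
import Groth.Agent.Lib.ModM1.Pull
import Groth.Agent.Lib.TensorMod.PullSupport
import Mathlib.RingTheory.Nakayama

/-!
Supports and associated points along the fibres of a flat module.
-/

set_option autoImplicit false

universe u

open CategoryTheory Limits AlgebraicGeometry TensorProduct IsLocalRing TopologicalSpace

set_option backward.isDefEq.respectTransparency false

namespace Groth.Agent.AssFlat15

open Groth.Agent.WA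

variable {X Y : Scheme.{u}}

/-- An associated generisation avoiding a section all powers of which are nonzero on a germ. -/
theorem exists_ass_isUnit {M : X.Modules} [Coh.IsQCoh M] {U : X.Opens} (hU : IsAffineOpen U) {x : X} (hx : x ∈ U)
    (t : Γ(M, U)) (a : Γ(X, U))
    (h : ∀ k : ℕ, (X.presheaf.germ U x hx a) ^ k • M.presheaf.germ U x hx t ≠ 0) :
    ∃ (z : X) (hz : z ∈ U), z ⤳ x ∧ z ∈ AssSch.Ass M ∧ IsUnit (X.presheaf.germ U z hz a) := by
  let J : Ideal Γ(X, U) := LinearMap.ker (LinearMap.toSpanSingleton Γ(X, U) Γ(M, U) t)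
  let P := (hU.primeIdealOf ⟨x, hx⟩).asIdeal
  let S : Submonoid Γ(X, U) := Submonoid.powers a ⊔ P.primeCompl
  have hdisj : Disjoint (J : Set Γ(X, U)) (S : Set Γ(X, U)) := Set.disjoint_left.2 fun r hrJ hrS => by
    obtain ⟨_, ⟨k, rfl⟩, c, hc, rfl⟩ := Submonoid.mem_sup.1 hrS
    refine h k ?_
    have h1 : (c : Γ(X, U)) • (a ^ k • t) = 0 := by
      rw [smul_smul, mul_comm]
      exact LinearMap.mem_ker.1 hrJ
    have h2 := germ_zero_of_smul hx c _ ((M1.isUnit_germ_iff hU hx c).2 hc) h1
    rwa [M1.germ_smul, map_pow] at h2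
  obtain ⟨p, hp, hJp, hpS⟩ := Ideal.exists_le_prime_disjoint J S hdisj
  obtain ⟨w, hw, hwu⟩ := exists_point hU p
  have hau : IsUnit (X.presheaf.germ U w hw a) :=
    (hwu a).2 fun ha => Set.disjoint_left.1 hpS ha (Submonoid.mem_sup_left (Submonoid.mem_powers a))
  have hwx : w ⤳ x := specializes_of_isUnit hU hx hw fun c hc =>
    (hwu c).2 fun hcp => Set.disjoint_left.1 hpS hcp
      (Submonoid.mem_sup_right ((M1.isUnit_germ_iff hU hx c).1 hc))
  have htw : M.presheaf.germ U w hw t ≠ 0 := fun h0 => by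
    obtain ⟨r, hr, hrt⟩ := M1.exists_smul_eq_zero_of_germ_eq_zero M hU hw t h0
    exact (hwu r).1 hr (hJp (LinearMap.mem_ker.2 hrt))
  obtain ⟨z, hz, hzw, hza, -⟩ := exists_weakAss hU hw t htw
  exact ⟨z, hz, hzw.trans hwx, AssPts11.mem_ass_iff.2 hza,
    (X.mem_basicOpen a z hz).1 (hzw.mem_open (X.basicOpen a).isOpen ((X.mem_basicOpen a w hw).2 hau))⟩

/-- Faithful flatness of a nonzero finite stalk, elementwise. -/
theorem exists_tmul_ne_zero {A B N E : Type u} [CommRing A] [IsLocalRing A] [CommRing B] [IsLocalRing B]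
    [Algebra A B] [AddCommGroup N] [Module A N] [Module B N] [IsScalarTower A B N] [Module.Finite B N]
    [Nontrivial N] [Module.Flat A N] [AddCommGroup E] [Module A E]
    (hloc : ∀ a ∈ maximalIdeal A, algebraMap A B a ∈ maximalIdeal B) :
    ∃ n : N, ∀ e : E, e ≠ 0 → n ⊗ₜ[A] e ≠ 0 := by
  obtain ⟨n, hn⟩ : ∃ n : N, n ∉ maximalIdeal B • (⊤ : Submodule B N) := by
    by_contra hno
    push Not at hno
    have : (⊤ : Submodule B N) = ⊥ := Submodule.eq_bot_of_le_smul_of_le_jacobson_bot (maximalIdeal B) ⊤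
      Module.Finite.fg_top (fun n _ => hno n) (IsLocalRing.maximalIdeal_le_jacobson ⊥)
    exact top_ne_bot this
  refine ⟨n, fun e he h0 => hn ?_⟩
  let I : Ideal A := LinearMap.ker (LinearMap.toSpanSingleton A E e)
  have hI : I ≤ maximalIdeal A := le_maximalIdeal fun htop => he (by
    have h1 : (1 : A) ∈ I := htop ▸ trivial
    simpa [I] using h1)
  let φ : (A ⧸ I) →ₗ[A] E := I.liftQ (LinearMap.toSpanSingleton A E e) le_rfl
  have hφ : Function.Injective φ := LinearMap.ker_eq_bot.1 (Submodule.ker_liftQ_eq_bot _ _ _ le_rfl)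
  have h1 : n ⊗ₜ[A] (Submodule.Quotient.mk (p := I) 1) = 0 := by
    apply Module.Flat.lTensor_preserves_injective_linearMap (M := N) φ hφ
    rw [map_zero, LinearMap.lTensor_tmul]
    rw [show φ (Submodule.Quotient.mk 1) = e from one_smul A e]
    exact h0
  have h2 := congrArg (TensorProduct.tensorQuotEquivQuotSMul N I) h1
  rw [map_zero, show (Submodule.Quotient.mk (p := I) (1 : A)) = Ideal.Quotient.mk I 1 from rfl,
    TensorProduct.tensorQuotEquivQuotSMul_tmul_mk, one_smul, Submodule.Quotient.mk_eq_zero] at h2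
  have h3 : n ∈ I • (⊤ : Submodule A N) := h2
  refine Submodule.smul_induction_on h3 (fun a ha m _ => ?_) (fun x y hx hy => add_mem hx hy)
  rw [← algebraMap_smul B a m]
  exact Submodule.smul_mem_smul (hloc a (hI ha)) trivial

variable (q : X ⟶ Y)

/-- A flat module has, above a generisation of an associated point, an associated point off the fibre. -/
theorem exists_ass_off_fibre [IsLocallyNoetherian Y] (E : Y.Modules) (F : X.Modules) [hE : Coh.IsQCoh E]
    (hT : Coh.IsQCoh (CohB1.tensorMod ((Scheme.Modules.pullback q).obj E) F))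
    (hflat : FlatMod.IsFlatOver q F) {x : X} (hx : x ∈ CohB1.support F)
    (hfin : Module.Finite (X.presheaf.stalk x) (F.presheaf.stalk x))
    {y' : Y} (hy' : y' ∈ AssSch.Ass E) (hsp : y' ⤳ q x) (hne : y' ≠ q x) :
    ∃ z ∈ AssSch.Ass (CohB1.tensorMod ((Scheme.Modules.pullback q).obj E) F), z ⤳ x ∧ z ≠ x := by
  letI := FlatMod.moduleStalkOver q F x
  letI := M2.stAlg q x
  haveI : IsScalarTower (Y.presheaf.stalk (q x)) (X.presheaf.stalk x) (F.presheaf.stalk x) :=
    .of_algebraMap_smul fun _ _ => rfl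
  haveI : Module.Flat (Y.presheaf.stalk (q x)) (F.presheaf.stalk x) := hflat x
  haveI := hfin
  haveI : Nontrivial (F.presheaf.stalk x) := not_subsingleton_iff_nontrivial.1 hx
  let T := CohB1.tensorMod ((Scheme.Modules.pullback q).obj E) F
  haveI : Coh.IsQCoh T := hT
  obtain ⟨V, hV, hyV, -⟩ := exists_isAffineOpen_mem_and_subset (U := (⊤ : Y.Opens)) (x := q x) trivial
  have hy'V : y' ∈ V := hsp.mem_open V.isOpen hyV
  obtain ⟨t, ht, -⟩ := exists_section_weakAss hV hy'V (AssPts11.mem_ass_iff.1 hy')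
  obtain ⟨b, hb', hb⟩ : ∃ b : Γ(Y, V), IsUnit (Y.presheaf.germ V y' hy'V b) ∧
      ¬ IsUnit (Y.presheaf.germ V (q x) hyV b) := by
    by_contra hc
    push Not at hc
    exact hne (hsp.antisymm (specializes_of_isUnit hV hy'V hyV hc)).eq
  have hek : ∀ k : ℕ, Y.presheaf.germ V (q x) hyV b ^ k • E.presheaf.germ V (q x) hyV t ≠ 0 := fun k h0 => by
    rw [← map_pow, ← M1.germ_smul] at h0
    have h1 := germ_zero_of_specializes hyV hy'V hsp _ h0
    rw [M1.germ_smul, map_pow, (hb'.pow k).smul_eq_zero] at h1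
    exact ht h1
  obtain ⟨n, hn⟩ := exists_tmul_ne_zero (A := Y.presheaf.stalk (q x)) (B := X.presheaf.stalk x)
    (N := F.presheaf.stalk x) (E := E.presheaf.stalk (q x)) (algebraMap_mem_maximalIdeal q x)
  obtain ⟨e⟩ := nonempty_stalk_pullTensor q E F x
  let g := e.symm (n ⊗ₜ E.presheaf.germ V (q x) hyV t)
  obtain ⟨W, hW, hxW, hWV⟩ := exists_isAffineOpen_mem_and_subset (U := q ⁻¹ᵁ V) (show x ∈ q ⁻¹ᵁ V from hyV)
  obtain ⟨r, u, hr, hu⟩ := M1.exists_germ_smul_eq T hW hxW g
  let a : Γ(X, W) := X.presheaf.map (homOfLE hWV).op (q.app V b)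
  have hga : X.presheaf.germ W x hxW a = q.stalkMap x (Y.presheaf.germ V (q x) hyV b) := by
    rw [Scheme.Hom.germ_stalkMap_apply]
    exact TopCat.Presheaf.germ_res_apply X.presheaf (homOfLE hWV) x hxW _
  obtain ⟨z, hz, hzx, hzA, hza⟩ := exists_ass_isUnit (M := T) hW hxW u a fun k h0 => by
    rw [← hu, smul_comm, hr.smul_eq_zero] at h0
    have h1 := congrArg e h0
    rw [map_smul, map_zero] at h1
    simp only [g, LinearEquiv.apply_symm_apply] at h1
    refine hn _ (hek k) ?_
    rw [hga, ← map_pow] at h1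
    change algebraMap (Y.presheaf.stalk (q x)) (X.presheaf.stalk x) (Y.presheaf.germ V (q x) hyV b ^ k) • _ = 0 at h1
    rwa [algebraMap_smul, ← TensorProduct.tmul_smul] at h1
  refine ⟨z, hzA, hzx, ?_⟩
  rintro rfl
  rw [hga] at hza
  exact hb (isUnit_of_map_unit (q.stalkMap z).hom _ hza)

/-- Above a point of the image of the support there is an associated point of the fibre. -/
theorem exists_fibre_ass (F : X.Modules) [Coh.IsQCoh F] {x : X} (hx : x ∈ CohB1.support F)
    (hfin : Module.Finite (X.presheaf.stalk x) (F.presheaf.stalk x)) :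
    ∃ z ∈ AssSch.Ass ((Scheme.Modules.pullback (q.fiberι (q x))).obj F),
      q.fiberι (q x) z ⤳ x ∧ q.fiberι (q x) z ∈ CohB1.support F := by
  let ι := q.fiberι (q x)
  haveI : Coh.IsQCoh ((Scheme.Modules.pullback ι).obj F) := M1.isQCoh_pullback ι inferInstance
  have hz0 : Nontrivial (((Scheme.Modules.pullback ι).obj F).presheaf.stalk (q.asFiber x)) := by
    let z := q.asFiber x
    have hzx : ι z = x := q.fiberι_asFiber x
    haveI : Module.Finite (X.presheaf.stalk (ι z)) (F.presheaf.stalk (ι z)) := hzx.symm ▸ hfin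
    haveI : Nontrivial (F.presheaf.stalk (ι z)) := not_subsingleton_iff_nontrivial.1 (hzx.symm ▸ hx)
    letI := M2.stAlg ι z
    haveI : IsLocalHom (algebraMap (X.presheaf.stalk (ι z)) ((q.fiber (q x)).presheaf.stalk z)) :=
      inferInstanceAs (IsLocalHom (ι.stalkMap z).hom)
    haveI : Nontrivial ((q.fiber (q x)).presheaf.stalk z ⊗[X.presheaf.stalk (ι z)] (F.presheaf.stalk (ι z) : Type u)) := by
      rw [← not_subsingleton_iff_nontrivial]
      intro hsub
      exact not_subsingleton (F.presheaf.stalk (ι z) : Type u)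
        (M2.subsingleton_of_baseChange_local (A := X.presheaf.stalk (ι z)) (B := (q.fiber (q x)).presheaf.stalk z)
          (F.presheaf.stalk (ι z) : Type u))
    exact (M2.pullStalkEquiv ι z F).injective.nontrivial
  obtain ⟨z, hzA, hzs⟩ := AssPts11.exists_ass_specializes hz0
  refine ⟨z, hzA, ?_, fun hsub => ?_⟩
  · have := hzs.map ι.continuous
    rwa [q.fiberι_asFiber] at this
  · haveI := AssPts11.nontrivial_of_mem_ass hzA
    haveI : Subsingleton (F.presheaf.stalk (ι z)) := hsub
    exact not_subsingleton _ (M2.pullStalkEquiv ι z F).symm.injective.subsingleton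

/-- Points with a fibrewise associated point lie in the support. -/
theorem mem_support_of_mem_ass_fiber (F : X.Modules) {y : Y} {z : q.fiber y}
    (hz : z ∈ AssSch.Ass ((Scheme.Modules.pullback (q.fiberι y)).obj F)) : q.fiberι y z ∈ CohB1.support F :=
  fun hsub => by
    haveI := AssPts11.nontrivial_of_mem_ass hz
    haveI : Subsingleton (F.presheaf.stalk (q.fiberι y z)) := hsub
    exact not_subsingleton _ (M2.pullStalkEquiv (q.fiberι y) z F).symm.injective.subsingleton

end Groth.Agent.AssFlat15
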