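import Groth.Agent.Lib.AssPts11.Basic
import Groth.Agent.Lib.RelCyc15.TensorFields
import Mathlib.RingTheory.Localization.BaseChange
import Mathlib.RingTheory.AlgebraicIndependent.TranscendenceBasis

/-!
A tensor product of two fields has no embedded associated points.
-/

set_option autoImplicit false

universe u

open CategoryTheory Limits AlgebraicGeometry TensorProduct

noncomputable section

namespace Groth.Agent.AssFlat15

theorem isDomain_tensor_adjoin_algebraicIndependent (k K : Type u) [Field k] [Field K] [Algebra k K]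
    {L : Type u} [Field L] [Algebra k L] {ι : Type u} {x : ι → L} (hx : AlgebraicIndependent k x) :
    IsDomain (↥(IntermediateField.adjoin k (Set.range x)) ⊗[k] K) := by
  let P := MvPolynomial ι k
  let F := FractionRing P
  letI : Algebra (K ⊗[k] P) (K ⊗[k] F) :=
    (Algebra.TensorProduct.map (AlgHom.id K K) (IsScalarTower.toAlgHom k P F)).toAlgebra
  haveI : IsScalarTower K (K ⊗[k] P) (K ⊗[k] F) :=
    IsScalarTower.of_algebraMap_eq (R := K) (S := K ⊗[k] P) (A := K ⊗[k] F) fun a => by
      simp [RingHom.algebraMap_toAlgebra]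
  haveI := IsLocalization.tensorProduct_tensorProduct_right k K (nonZeroDivisors P) F
    (by ext <;> simp [RingHom.algebraMap_toAlgebra])
  haveI : IsDomain (K ⊗[k] P) := (MvPolynomial.algebraTensorAlgEquiv k K).toMulEquiv.isDomain _
  haveI : IsDomain (K ⊗[k] F) := by
    refine IsLocalization.isDomain_of_le_nonZeroDivisors (R := K ⊗[k] P) (K ⊗[k] F)
      (M := (nonZeroDivisors P).map (Algebra.TensorProduct.includeRight (R := k) (A := K))) ?_
    rintro _ ⟨p, hp, rfl⟩
    refine mem_nonZeroDivisors_of_ne_zero fun h0 => nonZeroDivisors.ne_zero hp ?_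
    have hinj : Function.Injective (MvPolynomial.map (algebraMap k K) : MvPolynomial ι k →+* MvPolynomial ι K) :=
      MvPolynomial.map_injective _ (algebraMap k K).injective
    apply hinj
    rw [map_zero]
    have h1 := congrArg (MvPolynomial.algebraTensorAlgEquiv k K) h0
    rw [map_zero] at h1
    simp [Algebra.TensorProduct.includeRight_apply] at h1
    simp [h1]
  let e : ↥(IntermediateField.adjoin k (Set.range x)) ⊗[k] K ≃ₐ[k] K ⊗[k] F :=
    (Algebra.TensorProduct.congr hx.aevalEquivField.symm AlgEquiv.refl).trans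
      (Algebra.TensorProduct.comm k F K)
  exact e.toMulEquiv.isDomain _

theorem tensor_fields_incomparable_aux (k K F L : Type u) [Field k] [Field K] [Field F] [Field L] [Algebra k K]
    [Algebra k F] [Algebra k L] [Algebra F L] [IsScalarTower k F L] [Algebra.IsAlgebraic F L] [IsDomain (F ⊗[k] K)]
    (p p' : Ideal (K ⊗[k] L)) [p'.IsPrime]
    (hp : ∀ r ∈ p, r ∉ nonZeroDivisors (K ⊗[k] L)) (hle : p' ≤ p) [p.IsPrime] : p' = p := by
  let e : ((F ⊗[k] K) ⊗[F] L) ≃+* K ⊗[k] L :=
    ((Algebra.TensorProduct.comm F (F ⊗[k] K) L).toRingEquiv.trans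
      (Algebra.TensorProduct.cancelBaseChange k F L L K).toRingEquiv).trans
      (Algebra.TensorProduct.comm k L K).toRingEquiv
  let q := p.comap e
  let q' := p'.comap e
  haveI : Algebra.IsIntegral (F ⊗[k] K) ((F ⊗[k] K) ⊗[F] L) := inferInstance
  haveI : Module.Free (F ⊗[k] K) ((F ⊗[k] K) ⊗[F] L) := inferInstance
  have hbot : q.comap (algebraMap (F ⊗[k] K) ((F ⊗[k] K) ⊗[F] L)) = ⊥ := by
    rw [eq_bot_iff]
    intro b hb
    by_contra hb0
    have hb0' : b ≠ 0 := fun h => hb0 (h ▸ Submodule.zero_mem _)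
    refine hp (e (algebraMap (F ⊗[k] K) ((F ⊗[k] K) ⊗[F] L) b)) hb (mem_nonZeroDivisors_iff_right.2 fun z hz => ?_)
    obtain ⟨z, rfl⟩ := e.surjective z
    rw [← map_mul, map_eq_zero_iff _ e.injective, mul_comm, ← Algebra.smul_def] at hz
    rw [(smul_eq_zero.1 hz).resolve_left hb0', map_zero]
  have hq : q' = q := by
    rcases (Ideal.comap_mono hle : q' ≤ q).eq_or_lt with h | h
    · exact h
    · have h1 := Ideal.IsIntegral.comap_lt_comap (R := F ⊗[k] K) h
      rw [hbot] at h1
      exact absurd h1 not_lt_bot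
  exact Ideal.comap_injective_of_surjective (e : ((F ⊗[k] K) ⊗[F] L) →+* K ⊗[k] L) e.surjective hq

/-- Primes of a tensor product of fields without regular elements are incomparable. -/
theorem tensor_fields_incomparable (k K L : Type u) [Field k] [Field K] [Field L] [Algebra k K] [Algebra k L]
    (p p' : Ideal (K ⊗[k] L)) [p'.IsPrime]
    (hp : ∀ r ∈ p, r ∉ nonZeroDivisors (K ⊗[k] L)) (hle : p' ≤ p) [p.IsPrime] : p' = p := by
  obtain ⟨s, hs⟩ := exists_isTranscendenceBasis' k L
  obtain ⟨x, hx⟩ := hs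
  haveI : Algebra.IsAlgebraic ↥(IntermediateField.adjoin k (Set.range x)) L := hx.isAlgebraic_field
  haveI := isDomain_tensor_adjoin_algebraicIndependent k K hx.1
  exact tensor_fields_incomparable_aux k K ↥(IntermediateField.adjoin k (Set.range x)) L p p' hp hle

/-- Associated points of the spectrum of a tensor product of fields. -/
theorem eq_of_specializes_spec_tensor (k K L : Type u) [Field k] [Field K] [Field L] [Algebra k K] [Algebra k L]
    {z z' : Spec (CommRingCat.of (K ⊗[k] L))}
    (hz : z ∈ AssSch.Ass (Coh.structureModule (Spec (CommRingCat.of (K ⊗[k] L))))) (h : z' ⤳ z) : z' = z := by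
  refine PrimeSpectrum.ext (tensor_fields_incomparable k K L z.asIdeal z'.asIdeal (fun r hr hr0 => ?_)
    ((PrimeSpectrum.le_iff_specializes z' z).2 h))
  let X := Spec (CommRingCat.of (K ⊗[k] L))
  let a : Γ(X, ⊤) := (Scheme.ΓSpecIso (CommRingCat.of (K ⊗[k] L))).inv r
  have hmem : X.presheaf.germ ⊤ z trivial a ∈ nonZeroDivisors (X.presheaf.stalk z) := by
    let := TopCat.Presheaf.algebra_section_stalk X.presheaf (⟨z, trivial⟩ : (⊤ : X.Opens))
    have := (isAffineOpen_top X).isLocalization_stalk ⟨z, trivial⟩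
    refine IsLocalization.map_nonZeroDivisors_le ((isAffineOpen_top X).primeIdealOf ⟨z, trivial⟩).asIdeal.primeCompl
      (X.presheaf.stalk z) ⟨a, ?_, rfl⟩
    have hb : Function.Bijective (Scheme.ΓSpecIso (CommRingCat.of (K ⊗[k] L))).inv.hom :=
      ConcreteCategory.bijective_of_isIso (Scheme.ΓSpecIso (CommRingCat.of (K ⊗[k] L))).inv
    refine mem_nonZeroDivisors_iff_right.2 fun w hw => ?_
    obtain ⟨v, rfl⟩ := hb.2 w
    have hw' : (Scheme.ΓSpecIso (CommRingCat.of (K ⊗[k] L))).inv.hom (v * r) = 0 := by rw [map_mul]; exact hw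
    rw [map_eq_zero_iff _ hb.1] at hw'
    rw [(mem_nonZeroDivisors_iff_right.1 hr0) v hw', map_zero]
  have hu := WA.isUnit_germ_of_nonZeroDivisors (isAffineOpen_top X) (x := z) (y := z) trivial trivial
    specializes_rfl a hmem (AssPts11.mem_ass_iff.1 hz)
  rw [← X.mem_basicOpen a z trivial, basicOpen_eq_of_affine'] at hu
  apply hu
  simpa [a] using hr

end Groth.Agent.AssFlat15
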