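import Groth.Agent.Lib.AssFlat15.TensorS
import Groth.Agent.Lib.AssFlat15.Fields

/-!
Embedded associated points of `F ⊗_S G`.
-/

set_option autoImplicit false

universe u

open CategoryTheory Limits AlgebraicGeometry IsLocalRing TopologicalSpace

set_option backward.isDefEq.respectTransparency false

namespace Groth.Agent.AssFlat15

variable {X Y S : Scheme.{u}}

theorem eq_of_specializes_pullback_fields {k K L : CommRingCat.{u}} (hk : IsField k) (hK : IsField K) (hL : IsField L)
    (φ : k ⟶ K) (ψ : k ⟶ L) {z z' : ↥(pullback (Spec.map φ) (Spec.map ψ))}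
    (hz : z ∈ AssSch.Ass (Coh.structureModule (pullback (Spec.map φ) (Spec.map ψ)))) (h : z' ⤳ z) : z' = z := by
  letI : Field k := hk.toField
  letI : Field K := hK.toField
  letI : Field L := hL.toField
  letI : Algebra k K := φ.hom.toAlgebra
  letI : Algebra k L := ψ.hom.toAlgebra
  let e : pullback (Spec.map φ) (Spec.map ψ) ≅ Spec (CommRingCat.of (TensorProduct k K L)) := pullbackSpecIso k K L
  refine e.hom.isEmbedding.injective (eq_of_specializes_spec_tensor k K L ?_ (h.map e.hom.continuous))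
  exact (AssPts11.mem_ass_pullback_iff e.hom z _).1 ((mem_ass_congr (Twist.pullbackUnitIso e.hom) z).2 hz)

variable (f : X ⟶ S) (g : Y ⟶ S)

/-- The fibres of the comparison map have no embedded associated points. -/
theorem eq_of_specializes_resMap (x : X) (y' : g.fiber (f x))
    {v v' : ↥(pullback (X.fromSpecResidueField x ≫ f) (Y.fromSpecResidueField (g.fiberι (f x) y') ≫ g))}
    (hv : v ∈ AssSch.Ass (Coh.structureModule
      (pullback (X.fromSpecResidueField x ≫ f) (Y.fromSpecResidueField (g.fiberι (f x) y') ≫ g))))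
    (h : v' ⤳ v) : v' = v := by
  obtain ⟨ε, -⟩ := exists_fibProj_fiber_iso f g x y'
  let π := fibProj f g x
  let t := (g.fiber (f x)).fromSpecResidueField y' ≫ g.fiberToSpecResidueField (f x)
  obtain ⟨ψ, hψ⟩ : ∃ ψ : S.residueField (f x) ⟶ (g.fiber (f x)).residueField y', Spec.map ψ = t :=
    ⟨Spec.preimage t, Spec.map_preimage t⟩
  have hsq : IsPullback (π.fiberι y' ≫ (pullback.fst f g).fiberToSpecResidueField x) (π.fiberToSpecResidueField y')
      (Spec.map (f.residueFieldMap x)) t :=
    (IsPullback.of_hasPullback π ((g.fiber (f x)).fromSpecResidueField y')).paste_horiz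
      (isPullback_fibProj f g x).flip
  rw [← hψ] at hsq
  let δ := ε.symm ≪≫ hsq.isoPullback
  refine δ.hom.isEmbedding.injective (eq_of_specializes_pullback_fields (Field.toIsField _) (Field.toIsField _)
    (Field.toIsField _) _ _ ?_ (h.map δ.hom.continuous))
  exact (AssPts11.mem_ass_pullback_iff δ.hom v _).1 ((mem_ass_congr (Twist.pullbackUnitIso δ.hom) v).2 hv)

theorem fst_resMapP (x : X) (y : Y) (v : ↥(pullback (X.fromSpecResidueField x ≫ f) (Y.fromSpecResidueField y ≫ g))) :
    pullback.fst f g (resMapP f g x y v) = x := by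
  rw [← Scheme.Hom.comp_apply, pullback.lift_fst, Scheme.Hom.comp_apply, Scheme.fromSpecResidueField_apply]

theorem snd_resMapP (x : X) (y : Y) (v : ↥(pullback (X.fromSpecResidueField x ≫ f) (Y.fromSpecResidueField y ≫ g))) :
    pullback.snd f g (resMapP f g x y v) = y := by
  rw [← Scheme.Hom.comp_apply, pullback.lift_snd, Scheme.Hom.comp_apply, Scheme.fromSpecResidueField_apply]

theorem specializes_of_resMapP (x : X) (y' : g.fiber (f x))
    {v v' : ↥(pullback (X.fromSpecResidueField x ≫ f) (Y.fromSpecResidueField (g.fiberι (f x) y') ≫ g))}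
    (h : resMapP f g x (g.fiberι (f x) y') v' ⤳ resMapP f g x (g.fiberι (f x) y') v) : v' ⤳ v := by
  obtain ⟨ε, hε⟩ := exists_fibProj_fiber_iso f g x y'
  have e : resMapP f g x (g.fiberι (f x) y') =
      ε.inv ≫ (fibProj f g x).fiberι y' ≫ (pullback.fst f g).fiberι x := by rw [← hε, Iso.inv_hom_id_assoc]
  rw [e] at h
  exact (ε.inv ≫ (fibProj f g x).fiberι y' ≫ (pullback.fst f g).fiberι x).isEmbedding.isInducing.specializes_iff.1 h

variable {f g} [IsLocallyNoetherian X] [IsLocallyNoetherian Y] [IsLocallyNoetherian (pullback f g)]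

theorem noEmbedded_tensorS (F : X.Modules) (G : Y.Modules) (hG : Coh.IsQCoh G) (hGfl : FlatMod.IsFlatOver g G)
    (hF : AssSch.NoEmbedded F)
    (hstep : ∀ x ∈ AssSch.Ass F, ∀ y₁ ∈ AssSch.Ass ((Scheme.Modules.pullback (g.fiberι (f x))).obj G),
      ∀ y₂ ∈ AssSch.Ass ((Scheme.Modules.pullback (g.fiberι (f x))).obj G),
        g.fiberι (f x) y₂ ⤳ g.fiberι (f x) y₁ → y₂ = y₁) :
    AssSch.NoEmbedded (CohB1.tensorMod ((Scheme.Modules.pullback (pullback.fst f g)).obj F)
      ((Scheme.Modules.pullback (pullback.snd f g)).obj G)) := by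
  intro z₁ hz₁ z₂ hz₂ hsp
  obtain ⟨x, hx, y₁, hy₁, v₁, hv₁, rfl⟩ := (mem_ass_tensorS_iff F G hG hGfl z₁).1 hz₁
  obtain ⟨x₂, hx₂, y₂, hy₂, v₂, hv₂, rfl⟩ := (mem_ass_tensorS_iff F G hG hGfl z₂).1 hz₂
  have h1 := hsp.map (pullback.fst f g).continuous
  rw [fst_resMapP, fst_resMapP] at h1
  obtain rfl := hF x hx x₂ hx₂ h1
  have h2 := hsp.map (pullback.snd f g).continuous
  rw [snd_resMapP, snd_resMapP] at h2
  obtain rfl := hstep x hx y₁ hy₁ y₂ hy₂ h2
  rw [eq_of_specializes_resMap f g x y₂ hv₁ (specializes_of_resMapP f g x y₂ hsp)]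

/-- Flat over a base: associated points lie over those of the base. -/
theorem mem_ass_of_flat [IsLocallyNoetherian S] (G : Y.Modules) (hGfl : FlatMod.IsFlatOver g G) (s : S)
    (y' : g.fiber s) :
    g.fiberι s y' ∈ AssSch.Ass G ↔
      s ∈ AssSch.Ass (Coh.structureModule S) ∧ y' ∈ AssSch.Ass ((Scheme.Modules.pullback (g.fiberι s)).obj G) :=
  (mem_ass_congr ((M2.tensorIso (Twist.pullbackUnitIso g) (Iso.refl G)) ≪≫ M2.tensorLUnit G) _).symm.trans
    (mem_ass_tensor_iff g (Coh.structureModule S) G hGfl s y' (IsNoetherian.noetherian _) (IsNoetherian.noetherian _))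

end Groth.Agent.AssFlat15
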