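import Mathlib.RingTheory.Flat.Basic
import Mathlib.RingTheory.LocalRing.ResidueField.Basic
import Mathlib.RingTheory.Ideal.AssociatedPrime.Basic
import Mathlib.LinearAlgebra.DirectSum.Finsupp
import Mathlib.LinearAlgebra.TensorProduct.Tower
import Mathlib.LinearAlgebra.TensorProduct.Pi
import Mathlib.RingTheory.TensorProduct.Quotient
import Mathlib.Algebra.Module.Torsion.Basic
import Mathlib.RingTheory.Nilpotent.Lemmas
import Mathlib.LinearAlgebra.Basis.VectorSpace

/-!
The socle of `N ⊗ E` for `N` flat over the local ring acting on `E`.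
-/

set_option autoImplicit false

universe u

open TensorProduct IsLocalRing

namespace Groth.Agent.AssFlat15

/-- A nonzero element is killed by the maximal ideal. -/
def Depth0 (B : Type u) [CommRing B] [IsLocalRing B] (M : Type u) [AddCommGroup M] [Module B M] : Prop :=
  ∃ x : M, x ≠ 0 ∧ ∀ b ∈ maximalIdeal B, b • x = 0

variable {A B : Type u} [CommRing A] [IsLocalRing A] [CommRing B] [IsLocalRing B]

theorem depth0_of_injective {M M' : Type u} [AddCommGroup M] [Module B M] [AddCommGroup M'] [Module B M']
    (f : M →ₗ[B] M') (hf : Function.Injective f) (h : Depth0 B M) : Depth0 B M' := by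
  obtain ⟨x, hx, hk⟩ := h
  exact ⟨f x, fun h0 => hx (hf (h0.trans f.map_zero.symm)), fun b hb => by rw [← f.map_smul, hk b hb, map_zero]⟩

theorem depth0_congr {M M' : Type u} [AddCommGroup M] [Module B M] [AddCommGroup M'] [Module B M']
    (e : M ≃ₗ[B] M') : Depth0 B M ↔ Depth0 B M' :=
  ⟨depth0_of_injective e.toLinearMap e.injective, depth0_of_injective e.symm.toLinearMap e.symm.injective⟩

theorem depth0_iff_isAssociatedPrime {M : Type u} [AddCommGroup M] [Module B M] (hB : (maximalIdeal B).FG) :
    Depth0 B M ↔ IsAssociatedPrime (maximalIdeal B) M := by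
  constructor
  · rintro ⟨x, hx, hk⟩
    have hc : Submodule.colon (⊥ : Submodule B M) {x} = maximalIdeal B := by
      refine le_antisymm (IsLocalRing.le_maximalIdeal fun htop => hx ?_) fun b hb => ?_
      · have h1 : (1 : B) ∈ Submodule.colon (⊥ : Submodule B M) {x} := htop ▸ trivial
        rwa [Submodule.mem_colon_singleton, one_smul, Submodule.mem_bot] at h1
      · rw [Submodule.mem_colon_singleton, Submodule.mem_bot]; exact hk b hb
    exact ⟨inferInstance, x, by rw [hc, (inferInstance : (maximalIdeal B).IsPrime).radical]⟩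
  · rintro ⟨-, x, hx⟩
    have hx0 : x ≠ 0 := by
      rintro rfl
      refine (maximalIdeal.isMaximal B).ne_top (hx.trans ?_)
      rw [show Submodule.colon (⊥ : Submodule B M) {(0 : M)} = ⊤ from eq_top_iff.2 fun b _ => by simp,
        Ideal.radical_top]
    obtain ⟨n, hn⟩ := Ideal.exists_pow_le_of_le_radical_of_fg hx.le hB
    have hn' : ∀ b ∈ maximalIdeal B ^ n, b • x = 0 := fun b hb => by
      simpa [Submodule.mem_colon_singleton] using hn hb
    clear hn hx
    induction n generalizing x with
    | zero => exact absurd (by simpa using hn' 1 (by simp)) hx0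
    | succ n ih =>
      by_cases h : ∀ b ∈ maximalIdeal B ^ n, b • x = 0
      · exact ih x hx0 h
      push Not at h
      obtain ⟨b, hb, hbx⟩ := h
      refine ⟨b • x, hbx, fun c hc => ?_⟩
      rw [smul_smul]
      exact hn' _ (by rw [pow_succ']; exact Ideal.mul_mem_mul hc hb)

/-- Depth zero passes along a surjection of rings. -/
theorem depth0_iff_of_surjective {R G : Type u} [CommRing R] [IsLocalRing R] [AddCommGroup G] [Module R G]
    [Module B G] [Algebra B R] [IsScalarTower B R G] (h : Function.Surjective (algebraMap B R)) :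
    Depth0 R G ↔ Depth0 B G := by
  have hloc : IsLocalHom (algebraMap B R) := IsLocalHom.of_surjective _ h
  constructor
  · rintro ⟨x, hx, hk⟩
    exact ⟨x, hx, fun b hb => by rw [← algebraMap_smul R b x]; exact hk _ (hloc.1 b |> fun hu hu' => hb (hu hu'))⟩
  · rintro ⟨x, hx, hk⟩
    refine ⟨x, hx, fun r hr => ?_⟩
    obtain ⟨b, rfl⟩ := h r
    rw [algebraMap_smul]
    exact hk b fun hu => hr (hu.map (algebraMap B R))

section Tensor

variable [Algebra A B] {N E : Type u} [AddCommGroup N] [Module A N] [Module B N] [IsScalarTower A B N]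
  [AddCommGroup E] [Module A E]

theorem depth0_tensor_of_residue [Module.Flat A N] (hE : Depth0 A E) (hN : Depth0 B (N ⊗[A] ResidueField A)) :
    Depth0 B (N ⊗[A] E) := by
  obtain ⟨e, he, hk⟩ := hE
  let φ : ResidueField A →ₗ[A] E :=
    (maximalIdeal A).liftQ (LinearMap.toSpanSingleton A E e) fun a ha => hk a ha
  have hφ : Function.Injective φ := by
    rw [injective_iff_map_eq_zero]
    intro z hz
    obtain ⟨a, rfl⟩ := IsLocalRing.residue_surjective z
    change a • e = 0 at hz
    rw [IsLocalRing.residue_eq_zero_iff]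
    intro hu
    exact he (hu.smul_eq_zero.1 hz)
  exact depth0_of_injective (TensorProduct.AlgebraTensorModule.lTensor B N φ)
    (Module.Flat.lTensor_preserves_injective_linearMap φ hφ) hN

theorem exists_residue_of_depth0_tensor [Module.Flat A N] (hA : (maximalIdeal A).FG)
    (hloc : ∀ a ∈ maximalIdeal A, algebraMap A B a ∈ maximalIdeal B) (h : Depth0 B (N ⊗[A] E)) :
    Depth0 A E ∧ Depth0 B (N ⊗[A] ResidueField A) := by
  classical
  obtain ⟨s, hs⟩ := hA
  obtain ⟨x, hx, hk⟩ := h
  let K : Submodule A E := Submodule.torsionBySet A E (maximalIdeal A : Set A)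
  let θ : E →ₗ[A] (↥s → E) := LinearMap.pi fun a => (a : A) • LinearMap.id
  have hexact : Function.Exact K.subtype θ := by
    intro e
    constructor
    · intro he
      refine ⟨⟨e, (Submodule.mem_torsionBySet_iff _ _).2 fun a => ?_⟩, rfl⟩
      have hle : maximalIdeal A ≤ (LinearMap.toSpanSingleton A E e).ker := by
        rw [← hs]
        exact Submodule.span_le.2 fun a ha => congrFun he ⟨a, ha⟩
      exact hle a.2
    · rintro ⟨⟨e, he⟩, rfl⟩
      funext a
      exact (Submodule.mem_torsionBySet_iff _ _).1 he ⟨a, hs ▸ Submodule.subset_span a.2⟩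
  have hx0 : (LinearMap.lTensor N θ) x = 0 := by
    refine (TensorProduct.piRight A A N fun _ : ↥s => E).injective ?_
    rw [map_zero]
    funext a
    have key : ∀ z : N ⊗[A] E, TensorProduct.piRight A A N (fun _ : ↥s => E) (LinearMap.lTensor N θ z) a =
        (a : A) • z := fun z => by
      induction z using TensorProduct.induction_on with
      | zero => simp
      | tmul n e => simp [θ]
      | add z w hz hw => rw [map_add, map_add, Pi.add_apply, hz, hw, smul_add]
    rw [key, ← algebraMap_smul B (a : A) x]
    exact hk _ (hloc _ (hs ▸ Submodule.subset_span a.2))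
  obtain ⟨x', rfl⟩ := (Module.Flat.lTensor_exact N hexact x).1 hx0
  have hinj : Function.Injective (LinearMap.lTensor N K.subtype) :=
    Module.Flat.lTensor_preserves_injective_linearMap _ K.injective_subtype
  have hx' : x' ≠ 0 := fun h0 => hx (by rw [h0, map_zero])
  have hk' : ∀ b ∈ maximalIdeal B, b • x' = 0 := fun b hb => hinj (by
    rw [map_zero]
    exact ((TensorProduct.AlgebraTensorModule.lTensor B N K.subtype).map_smul b x').trans (hk b hb))
  refine ⟨?_, ?_⟩
  · obtain ⟨e, he⟩ : ∃ e : K, e ≠ 0 := by
      by_contra hno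
      push Not at hno
      haveI : Subsingleton K := ⟨fun a b => (hno a).trans (hno b).symm⟩
      exact hx' (Subsingleton.elim _ _)
    exact ⟨e.1, fun h0 => he (Subtype.ext h0), fun a ha => (Submodule.mem_torsionBySet_iff _ _).1 e.2 ⟨a, ha⟩⟩
  · letI : Module (ResidueField A) K := (Module.IsTorsionBySet.module
      (Submodule.torsionBySet_isTorsionBySet (R := A) (M := E) (maximalIdeal A : Set A)))
    haveI : IsScalarTower A (ResidueField A) K := Module.IsTorsionBySet.isScalarTower
      (Submodule.torsionBySet_isTorsionBySet (R := A) (M := E) (maximalIdeal A : Set A))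
    haveI : Module.Free (ResidueField A) K :=
      inferInstance
    let bas := Module.Free.chooseBasis (ResidueField A) K
    let e : K ≃ₗ[A] (_ →₀ ResidueField A) := bas.repr.restrictScalars A
    obtain ⟨i, hi⟩ : ∃ i, (TensorProduct.AlgebraTensorModule.lTensor B N
        (Finsupp.lapply i ∘ₗ e.toLinearMap)) x' ≠ 0 := by
      by_contra hno
      push Not at hno
      apply hx'
      refine (TensorProduct.congr (LinearEquiv.refl A N) e).injective ?_
      rw [map_zero]
      refine (TensorProduct.finsuppRight A A N (ResidueField A) _).injective ?_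
      rw [map_zero]
      ext i
      rw [TensorProduct.finsuppRight_apply, Finsupp.zero_apply]
      refine Eq.trans ?_ (hno i)
      change LinearMap.lTensor N (Finsupp.lapply i) (LinearMap.lTensor N e.toLinearMap x') = _
      rw [← LinearMap.comp_apply, ← LinearMap.lTensor_comp]
      rfl
    exact ⟨_, hi, fun b hb => by rw [← LinearMap.map_smul, hk' b hb, map_zero]⟩

theorem depth0_tensor_iff [Module.Flat A N] (hA : (maximalIdeal A).FG)
    (hloc : ∀ a ∈ maximalIdeal A, algebraMap A B a ∈ maximalIdeal B) :
    Depth0 B (N ⊗[A] E) ↔ Depth0 A E ∧ Depth0 B (N ⊗[A] ResidueField A) :=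
  ⟨exists_residue_of_depth0_tensor hA hloc, fun h => depth0_tensor_of_residue h.1 h.2⟩

/-- `R ⊗_B N` is `N ⊗_A κ` when `R` is the quotient of `B` by the maximal ideal of `A`. -/
theorem nonempty_quot_tensor_equiv {R : Type u} [CommRing R] [Algebra B R]
    (h : Function.Surjective (algebraMap B R))
    (hker : RingHom.ker (algebraMap B R) = (maximalIdeal A).map (algebraMap A B)) :
    Nonempty (R ⊗[B] N ≃ₗ[B] N ⊗[A] ResidueField A) := by
  let e0 : (B ⧸ (maximalIdeal A).map (algebraMap A B)) ≃ₐ[B] R :=
    (Ideal.quotientEquivAlgOfEq B hker.symm).trans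
      (Ideal.quotientKerAlgEquivOfSurjective (f := Algebra.ofId B R) h)
  let e1 : R ≃ₗ[B] B ⊗[A] (A ⧸ maximalIdeal A) :=
    e0.symm.toLinearEquiv.trans (Algebra.TensorProduct.quotIdealMapEquivTensorQuot B (maximalIdeal A)).toLinearEquiv
  exact ⟨(TensorProduct.congr e1 (LinearEquiv.refl B N)).trans
    ((TensorProduct.comm B (B ⊗[A] (A ⧸ maximalIdeal A)) N).trans
      (TensorProduct.AlgebraTensorModule.cancelBaseChange A B B N (A ⧸ maximalIdeal A)))⟩

end Tensor

end Groth.Agent.AssFlat15
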