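import Groth.Agent.Lib.AssFlat15.Alg
import Groth.Agent.Lib.AssPts11.OpenRestrict
import Groth.Agent.Lib.EGA43Top.FibreStalk
import Groth.Agent.Lib.TensorMod.PullStalk
import Groth.Agent.Lib.TensorMod.Basic

/-!
Associated points of `q^* E ⊗ F` for `F` flat over the base: associated points of `E` and of the fibres.
-/

set_option autoImplicit false

universe u

open CategoryTheory Limits AlgebraicGeometry TensorProduct IsLocalRing

set_option backward.isDefEq.respectTransparency false

namespace Groth.Agent.AssFlat15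

variable {X Y : Scheme.{u}}

theorem mem_ass_iff_depth0 {F : X.Modules} {x : X} (hX : (maximalIdeal (X.presheaf.stalk x)).FG) :
    x ∈ AssSch.Ass F ↔ Depth0 (X.presheaf.stalk x) (F.presheaf.stalk x) :=
  (depth0_iff_isAssociatedPrime hX).symm

theorem fg_maximalIdeal_of_surjective {R S : Type u} [CommRing R] [IsLocalRing R] [CommRing S] [IsLocalRing S]
    (σ : R →+* S) (hσ : Function.Surjective σ) (h : (maximalIdeal R).FG) : (maximalIdeal S).FG := by
  haveI : IsLocalHom σ := IsLocalHom.of_surjective _ hσ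
  rw [← Ideal.map_comap_of_surjective σ hσ (maximalIdeal S), IsLocalRing.maximalIdeal_comap]
  exact h.map σ

variable (q : X ⟶ Y)

theorem algebraMap_mem_maximalIdeal (x : X) :
    ∀ a ∈ maximalIdeal (Y.presheaf.stalk (q x)), (q.stalkMap x) a ∈ maximalIdeal (X.presheaf.stalk x) :=
  fun a ha hu => ha (isUnit_of_map_unit (q.stalkMap x).hom a hu)

/-- The stalk of `q^* E ⊗ F`. -/
theorem nonempty_stalk_pullTensor (E : Y.Modules) (F : X.Modules) (x : X) :
    letI := FlatMod.moduleStalkOver q F x
    letI := M2.stAlg q x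
    haveI : IsScalarTower (Y.presheaf.stalk (q x)) (X.presheaf.stalk x) (F.presheaf.stalk x) :=
      .of_algebraMap_smul fun _ _ => rfl
    Nonempty ((CohB1.tensorMod ((Scheme.Modules.pullback q).obj E) F).presheaf.stalk x ≃ₗ[X.presheaf.stalk x]
      (F.presheaf.stalk x : Type u) ⊗[Y.presheaf.stalk (q x)] (E.presheaf.stalk (q x) : Type u)) := by
  letI := FlatMod.moduleStalkOver q F x
  letI := M2.stAlg q x
  haveI : IsScalarTower (Y.presheaf.stalk (q x)) (X.presheaf.stalk x) (F.presheaf.stalk x) :=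
    .of_algebraMap_smul fun _ _ => rfl
  exact ⟨(M2.stalkEquiv _ F x).trans ((TensorProduct.congr (M2.pullStalkEquiv q x E).symm (LinearEquiv.refl _ _)).trans
    ((TensorProduct.comm (X.presheaf.stalk x) _ _).trans
      (TensorProduct.AlgebraTensorModule.cancelBaseChange (Y.presheaf.stalk (q x)) (X.presheaf.stalk x)
        (X.presheaf.stalk x) (F.presheaf.stalk x) (E.presheaf.stalk (q x)))))⟩

/-- The residual depth condition at a point. -/
def FibDepth0 (F : X.Modules) (x : X) : Prop :=
  letI := FlatMod.moduleStalkOver q F x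
  letI := M2.stAlg q x
  haveI : IsScalarTower (Y.presheaf.stalk (q x)) (X.presheaf.stalk x) (F.presheaf.stalk x) :=
    .of_algebraMap_smul fun _ _ => rfl
  Depth0 (X.presheaf.stalk x) ((F.presheaf.stalk x : Type u) ⊗[Y.presheaf.stalk (q x)]
    ResidueField (Y.presheaf.stalk (q x)))

theorem mem_ass_tensor_iff_depth0 (E : Y.Modules) (F : X.Modules) {x : X} (hflat : FlatMod.IsFlatOverAt q F x)
    (hY : (maximalIdeal (Y.presheaf.stalk (q x))).FG) (hX : (maximalIdeal (X.presheaf.stalk x)).FG) :
    x ∈ AssSch.Ass (CohB1.tensorMod ((Scheme.Modules.pullback q).obj E) F) ↔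
      q x ∈ AssSch.Ass E ∧ FibDepth0 q F x := by
  letI := FlatMod.moduleStalkOver q F x
  letI := M2.stAlg q x
  haveI : IsScalarTower (Y.presheaf.stalk (q x)) (X.presheaf.stalk x) (F.presheaf.stalk x) :=
    .of_algebraMap_smul fun _ _ => rfl
  haveI : Module.Flat (Y.presheaf.stalk (q x)) (F.presheaf.stalk x) := hflat
  obtain ⟨e⟩ := nonempty_stalk_pullTensor q E F x
  rw [mem_ass_iff_depth0 hX, mem_ass_iff_depth0 hY, depth0_congr e,
    depth0_tensor_iff hY (algebraMap_mem_maximalIdeal q x)]
  rfl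

theorem mem_ass_fiber_iff_depth0 (F : X.Modules) (y : Y) (z : q.fiber y)
    (hX : (maximalIdeal (X.presheaf.stalk (q.fiberι y z))).FG) :
    z ∈ AssSch.Ass ((Scheme.Modules.pullback (q.fiberι y)).obj F) ↔ FibDepth0 q F (q.fiberι y z) := by
  let x := q.fiberι y z
  let B := X.presheaf.stalk x
  let R := (q.fiber y).presheaf.stalk z
  letI := FlatMod.moduleStalkOver q F x
  letI := M2.stAlg q x
  haveI : IsScalarTower (Y.presheaf.stalk (q x)) B (F.presheaf.stalk x) :=
    .of_algebraMap_smul fun _ _ => rfl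
  letI : Algebra B R := M2.stAlg (q.fiberι y) z
  have hsurj : Function.Surjective (algebraMap B R) := (q.fiberι y).stalkMap_surjective z
  obtain ⟨e, he⟩ := EGA43Top.exists_ringEquiv_fiber_stalk q y z
  have hker : RingHom.ker (algebraMap B R) =
      (maximalIdeal (Y.presheaf.stalk (q x))).map (algebraMap (Y.presheaf.stalk (q x)) B) := by
    ext b
    rw [RingHom.mem_ker, show algebraMap B R b = e (Ideal.Quotient.mk _ b) from (he b).symm,
      map_eq_zero_iff _ e.injective, Ideal.Quotient.eq_zero_iff_mem]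
    rfl
  obtain ⟨e2⟩ := nonempty_quot_tensor_equiv (A := Y.presheaf.stalk (q x)) (B := B) (N := F.presheaf.stalk x) hsurj hker
  have hR : (maximalIdeal R).FG := fg_maximalIdeal_of_surjective (algebraMap B R) hsurj hX
  rw [mem_ass_iff_depth0 hR, depth0_congr (M2.pullStalkEquiv (q.fiberι y) z F).symm,
    depth0_iff_of_surjective (B := B) hsurj, depth0_congr e2]
  rfl

/-- Associated points of `q^* E ⊗ F`, fibre by fibre. -/
theorem mem_ass_tensor_iff (E : Y.Modules) (F : X.Modules) (hflat : FlatMod.IsFlatOver q F) (y : Y) (z : q.fiber y)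
    (hY : (maximalIdeal (Y.presheaf.stalk y)).FG)
    (hX : (maximalIdeal (X.presheaf.stalk (q.fiberι y z))).FG) :
    q.fiberι y z ∈ AssSch.Ass (CohB1.tensorMod ((Scheme.Modules.pullback q).obj E) F) ↔
      y ∈ AssSch.Ass E ∧ z ∈ AssSch.Ass ((Scheme.Modules.pullback (q.fiberι y)).obj F) := by
  have hy : q (q.fiberι y z) = y := (Scheme.Hom.range_fiberι q y).le ⟨z, rfl⟩
  have hY' : (maximalIdeal (Y.presheaf.stalk (q (q.fiberι y z)))).FG := hy.symm ▸ hY
  rw [mem_ass_tensor_iff_depth0 q E F (hflat _) hY' hX, mem_ass_fiber_iff_depth0 q F y z hX, hy]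

/-- The associated points of `q^* E ⊗ F`. -/
theorem mem_ass_tensor_iff' [IsLocallyNoetherian X] [IsLocallyNoetherian Y] (E : Y.Modules) (F : X.Modules)
    (hflat : FlatMod.IsFlatOver q F) (x : X) :
    x ∈ AssSch.Ass (CohB1.tensorMod ((Scheme.Modules.pullback q).obj E) F) ↔
      q x ∈ AssSch.Ass E ∧ q.asFiber x ∈ AssSch.Ass ((Scheme.Modules.pullback (q.fiberι (q x))).obj F) := by
  have := mem_ass_tensor_iff q E F hflat (q x) (q.asFiber x) (IsNoetherian.noetherian _) (IsNoetherian.noetherian _)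
  rwa [q.fiberι_asFiber] at this

end Groth.Agent.AssFlat15
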