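import Groth.Agent.Lib.AssFlat15.Fibre
import Groth.Agent.Lib.FlatH4.PullFlat
import Groth.Agent.Lib.CartExt13.Divisor
import Groth.Agent.Lib.Twist.Pullback

/-!
Associated points of `F ⊗_S G` for `G` flat over `S`.
-/

set_option autoImplicit false

universe u

open CategoryTheory Limits AlgebraicGeometry IsLocalRing TopologicalSpace

set_option backward.isDefEq.respectTransparency false

namespace Groth.Agent.AssFlat15

variable {X Y S : Scheme.{u}}

theorem mem_ass_congr {F F' : X.Modules} (e : F ≅ F') (x : X) : x ∈ AssSch.Ass F ↔ x ∈ AssSch.Ass F' := by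
  have hb : Function.Bijective (M2.stMap ((M2.pmF X).map e.hom) x) :=
    (M1.isIso_iff_stalk e.hom).mp inferInstance x
  exact LinearEquiv.AssociatedPrimes.eq (LinearEquiv.ofBijective _ hb) |> Set.ext_iff.1 <| _

theorem isPreimmersion_mono {A B : Scheme.{u}} (j : A ⟶ B) [IsPreimmersion j] : Mono j := inferInstance

theorem fg_stalk_fiber (q : X ⟶ Y) (y : Y) (z : q.fiber y)
    (h : (maximalIdeal (X.presheaf.stalk (q.fiberι y z))).FG) :
    (maximalIdeal ((q.fiber y).presheaf.stalk z)).FG :=
  fg_maximalIdeal_of_surjective _ ((q.fiberι y).stalkMap_surjective z) h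

/-- A point of a preimmersion gives back the residue field of its image. -/
theorem exists_fac_preimmersion {A B : Scheme.{u}} (g : A ⟶ B) [IsPreimmersion g] (a : A) :
    ∃ w : Spec (B.residueField (g a)) ⟶ A, w ≫ g = B.fromSpecResidueField (g a) := by
  haveI : IsIso (g.residueFieldMap a) := by
    refine (ConcreteCategory.isIso_iff_bijective _).2 ⟨(g.residueFieldMap a).hom.injective, fun b => ?_⟩
    obtain ⟨b, rfl⟩ := Scheme.residue_surjective A a b
    obtain ⟨c, rfl⟩ := g.stalkMap_surjective a b
    exact ⟨B.residue _ c, ConcreteCategory.congr_hom (Scheme.residue_residueFieldMap g a) c⟩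
  refine ⟨Spec.map (inv (g.residueFieldMap a)) ≫ A.fromSpecResidueField a, ?_⟩
  rw [Category.assoc, ← Scheme.Hom.SpecMap_residueFieldMap_fromSpecResidueField, ← Category.assoc,
    ← Spec.map_comp, IsIso.hom_inv_id, Spec.map_id, Category.id_comp]

variable (f : X ⟶ S) (g : Y ⟶ S)

/-- The comparison of `Spec κ(x) ×_S Spec κ(y)` with `X ×_S Y`. -/
noncomputable abbrev resMapP (x : X) (y : Y) :
    pullback (X.fromSpecResidueField x ≫ f) (Y.fromSpecResidueField y ≫ g) ⟶ pullback f g :=
  pullback.map (X.fromSpecResidueField x ≫ f) (Y.fromSpecResidueField y ≫ g) f g (X.fromSpecResidueField x)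
    (Y.fromSpecResidueField y) (𝟙 S) (Category.comp_id _) (Category.comp_id _)

theorem mono_resMapP (x : X) (y : Y) : Mono (resMapP f g x y) := ⟨fun a b h => by
  refine pullback.hom_ext ?_ ?_
  · rw [← cancel_mono (X.fromSpecResidueField x), Category.assoc, Category.assoc]
    simpa only [Category.assoc, pullback.lift_fst] using congrArg (· ≫ pullback.fst f g) h
  · rw [← cancel_mono (Y.fromSpecResidueField y), Category.assoc, Category.assoc]
    simpa only [Category.assoc, pullback.lift_snd] using congrArg (· ≫ pullback.snd f g) h⟩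

variable (x : X)

/-- The fibre of `X ×_S Y` over `x`, mapped to the fibre of `Y` over `f x`. -/
noncomputable abbrev fibProj : (pullback.fst f g).fiber x ⟶ g.fiber (f x) :=
  pullback.map _ _ _ _ (pullback.snd f g) (Spec.map (f.residueFieldMap x)) f
    (IsPullback.of_hasPullback f g).flip.w.symm (by simp)

theorem isPullback_fibProj : IsPullback (fibProj f g x) ((pullback.fst f g).fiberToSpecResidueField x)
    (g.fiberToSpecResidueField (f x)) (Spec.map (f.residueFieldMap x)) :=
  isPullback_fiberToSpecResidueField_of_isPullback (IsPullback.of_hasPullback f g).flip x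

theorem fibProj_ι : fibProj f g x ≫ g.fiberι (f x) = (pullback.fst f g).fiberι x ≫ pullback.snd f g :=
  pullback.lift_fst _ _ _

theorem flat_fibProj : Flat (fibProj f g x) := by
  refine MorphismProperty.of_isPullback (P := @Flat) (isPullback_fibProj f g x).flip ?_
  rw [HasRingHomProperty.Spec_iff (P := @Flat)]
  letI := (f.residueFieldMap x).hom.toAlgebra
  exact (inferInstance : Module.Flat (S.residueField (f x)) (X.residueField x))

/-- The fibre of `fibProj` is `Spec κ(x) ×_S Spec κ(y)`. -/
theorem exists_fibProj_fiber_iso (y' : g.fiber (f x)) :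
    ∃ e : (fibProj f g x).fiber y' ≅
        pullback (X.fromSpecResidueField x ≫ f) (Y.fromSpecResidueField (g.fiberι (f x) y') ≫ g),
      e.hom ≫ resMapP f g x (g.fiberι (f x) y') =
        (fibProj f g x).fiberι y' ≫ (pullback.fst f g).fiberι x := by
  let π := fibProj f g x
  let ιx := (pullback.fst f g).fiberι x
  let ιs := g.fiberι (f x)
  let y := ιs y'
  let μ := resMapP f g x y
  let k := π.fiberι y' ≫ ιx
  haveI : Mono μ := mono_resMapP f g x y
  haveI : Mono (π.fiberι y') := isPreimmersion_mono _
  haveI : Mono ιx := isPreimmersion_mono _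
  haveI : Mono ιs := isPreimmersion_mono _
  haveI : Mono k := mono_comp _ _
  have hx : ιx ≫ pullback.fst f g = (pullback.fst f g).fiberToSpecResidueField x ≫ X.fromSpecResidueField x :=
    Scheme.Hom.fiber_fac _ _
  have hy : (g.fiber (f x)).fromSpecResidueField y' ≫ ιs =
      Spec.map (ιs.residueFieldMap y') ≫ Y.fromSpecResidueField y :=
    (Scheme.Hom.SpecMap_residueFieldMap_fromSpecResidueField ιs y').symm
  have hk1 : k ≫ pullback.fst f g =
      (π.fiberι y' ≫ (pullback.fst f g).fiberToSpecResidueField x) ≫ X.fromSpecResidueField x := by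
    simp only [k, Category.assoc, hx]
  have hk2 : k ≫ pullback.snd f g =
      (π.fiberToSpecResidueField y' ≫ Spec.map (ιs.residueFieldMap y')) ≫ Y.fromSpecResidueField y := by
    simp only [k, Category.assoc, ιx, ← fibProj_ι]
    rw [← Category.assoc, show π.fiberι y' ≫ fibProj f g x =
      π.fiberToSpecResidueField y' ≫ (g.fiber (f x)).fromSpecResidueField y' from Scheme.Hom.fiber_fac π y',
      Category.assoc, hy]
  let e₁ : π.fiber y' ⟶ pullback (X.fromSpecResidueField x ≫ f) (Y.fromSpecResidueField y ≫ g) :=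
    pullback.lift (π.fiberι y' ≫ (pullback.fst f g).fiberToSpecResidueField x)
      (π.fiberToSpecResidueField y' ≫ Spec.map (ιs.residueFieldMap y')) (by
        rw [← Category.assoc, ← hk1, ← Category.assoc (f := π.fiberToSpecResidueField y' ≫ _), ← hk2,
          Category.assoc, Category.assoc, pullback.condition]
        simp only [k, Category.assoc])
  have he₁ : e₁ ≫ μ = k := by
    refine pullback.hom_ext ?_ ?_
    · rw [hk1, Category.assoc, pullback.lift_fst, pullback.lift_fst_assoc]
    · rw [hk2, Category.assoc, pullback.lift_snd, pullback.lift_snd_assoc]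
  obtain ⟨θ, hθ⟩ := exists_fac_preimmersion ((g.fiber (f x)).fromSpecResidueField y' ≫ ιs)
    (closedPoint ((g.fiber (f x)).residueField y'))
  have hpt : ((g.fiber (f x)).fromSpecResidueField y' ≫ ιs) (closedPoint _) = y := by
    rw [Scheme.Hom.comp_apply, Scheme.fromSpecResidueField_apply]
  have hW : pullback.fst (X.fromSpecResidueField x ≫ f) (Y.fromSpecResidueField y ≫ g) ≫ X.fromSpecResidueField x =
      μ ≫ pullback.fst f g := (pullback.lift_fst _ _ _).symm
  let h : pullback (X.fromSpecResidueField x ≫ f) (Y.fromSpecResidueField y ≫ g) ⟶ (pullback.fst f g).fiber x :=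
    pullback.lift μ (pullback.fst _ _) hW.symm
  have hι : h ≫ ιx = μ := pullback.lift_fst _ _ _
  obtain ⟨θ', hθ'⟩ : ∃ θ' : Spec (Y.residueField y) ⟶ Spec ((g.fiber (f x)).residueField y'),
      θ' ≫ (g.fiber (f x)).fromSpecResidueField y' ≫ ιs = Y.fromSpecResidueField y := by
    rw [← hpt]
    exact ⟨θ, hθ⟩
  let e₂ : pullback (X.fromSpecResidueField x ≫ f) (Y.fromSpecResidueField y ≫ g) ⟶ π.fiber y' :=
    pullback.lift h (pullback.snd _ _ ≫ θ') (by
      rw [← cancel_mono ιs, Category.assoc, Category.assoc, Category.assoc, hθ',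
        show fibProj f g x ≫ ιs = ιx ≫ pullback.snd f g from fibProj_ι f g x, ← Category.assoc, hι]
      exact pullback.lift_snd _ _ _)
  have he₂ : e₂ ≫ k = μ := by
    change e₂ ≫ π.fiberι y' ≫ ιx = μ
    rw [← Category.assoc, show e₂ ≫ π.fiberι y' = h from pullback.lift_fst _ _ _, hι]
  exact ⟨⟨e₁, e₂, by rw [← cancel_mono k, Category.assoc, he₂, he₁, Category.id_comp],
    by rw [← cancel_mono μ, Category.assoc, he₁, he₂, Category.id_comp]⟩, he₁⟩

variable {f g} [IsLocallyNoetherian X] [IsLocallyNoetherian Y] [IsLocallyNoetherian (pullback f g)]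

/-- Associated points of `F ⊗_S G`. -/
theorem mem_ass_tensorS_iff (F : X.Modules) (G : Y.Modules) (hG : Coh.IsQCoh G)
    (hGfl : FlatMod.IsFlatOver g G) (z : ↥(pullback f g)) :
    z ∈ AssSch.Ass (CohB1.tensorMod ((Scheme.Modules.pullback (pullback.fst f g)).obj F)
        ((Scheme.Modules.pullback (pullback.snd f g)).obj G)) ↔
      ∃ x ∈ AssSch.Ass F, ∃ y' ∈ AssSch.Ass ((Scheme.Modules.pullback (g.fiberι (f x))).obj G),
        z ∈ resMapP f g x (g.fiberι (f x) y') ''
          AssSch.Ass (Coh.structureModule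
            (pullback (X.fromSpecResidueField x ≫ f) (Y.fromSpecResidueField (g.fiberι (f x) y') ≫ g))) := by
  haveI := hG
  let p1 := pullback.fst f g
  let p2 := pullback.snd f g
  have hflat : FlatMod.IsFlatOver p1 ((Scheme.Modules.pullback p2).obj G) := fun w =>
    FlatH4.isFlatOverAt_baseChange (IsPullback.of_hasPullback f g).flip G w (hGfl _)
  -- the fibre over a point of `X`
  have key : ∀ (x : X) (w : p1.fiber x),
      w ∈ AssSch.Ass ((Scheme.Modules.pullback (p1.fiberι x)).obj ((Scheme.Modules.pullback p2).obj G)) ↔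
        ∃ y' ∈ AssSch.Ass ((Scheme.Modules.pullback (g.fiberι (f x))).obj G),
          p1.fiberι x w ∈ resMapP f g x (g.fiberι (f x) y') ''
            AssSch.Ass (Coh.structureModule
              (pullback (X.fromSpecResidueField x ≫ f) (Y.fromSpecResidueField (g.fiberι (f x) y') ≫ g))) := by
    intro x w
    let π := fibProj f g x
    let Gs := (Scheme.Modules.pullback (g.fiberι (f x))).obj G
    let e : (Scheme.Modules.pullback (p1.fiberι x)).obj ((Scheme.Modules.pullback p2).obj G) ≅
        CohB1.tensorMod ((Scheme.Modules.pullback π).obj Gs) (Coh.structureModule (p1.fiber x)) :=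
      (Scheme.Modules.pullbackComp (p1.fiberι x) p2).app G ≪≫
        (Scheme.Modules.pullbackCongr (fibProj_ι f g x).symm).app G ≪≫
        ((Scheme.Modules.pullbackComp π (g.fiberι (f x))).app G).symm ≪≫
        (M2.tensorRUnit _).symm
    haveI := flat_fibProj f g x
    have hfg : ∀ (y' : g.fiber (f x)) (u : π.fiber y'),
        (π.fiberι y' u ∈ AssSch.Ass (CohB1.tensorMod ((Scheme.Modules.pullback π).obj Gs)
            (Coh.structureModule (p1.fiber x))) ↔
          y' ∈ AssSch.Ass Gs ∧ u ∈ AssSch.Ass (Coh.structureModule (π.fiber y'))) := fun y' u =>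
      (mem_ass_tensor_iff π Gs (Coh.structureModule (p1.fiber x)) (CartExt13.isFlatOver_structureModule π) y' u
        (fg_stalk_fiber g (f x) y' (IsNoetherian.noetherian _))
        (fg_stalk_fiber p1 x _ (IsNoetherian.noetherian _))).trans
        (and_congr_right fun _ => mem_ass_congr (Twist.pullbackUnitIso (π.fiberι y')) u)
    rw [mem_ass_congr e]
    constructor
    · intro hw
      obtain ⟨u, hu⟩ : w ∈ Set.range (π.fiberι (π w)) := (Scheme.Hom.range_fiberι π (π w)).ge rfl
      obtain ⟨h1, h2⟩ := (hfg (π w) u).1 (hu.symm ▸ hw)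
      obtain ⟨ε, hε⟩ := exists_fibProj_fiber_iso f g x (π w)
      refine ⟨π w, h1, ε.hom u, ?_, ?_⟩
      · refine (AssPts11.mem_ass_pullback_iff ε.hom u _).1 ((mem_ass_congr (Twist.pullbackUnitIso ε.hom) u).2 h2)
      · have := congrArg (fun φ : π.fiber (π w) ⟶ pullback f g => φ u) hε
        simp only [Scheme.Hom.comp_apply] at this
        rw [this]
        exact congrArg _ hu
    · rintro ⟨y', hy', v, hv, hvw⟩
      obtain ⟨ε, hε⟩ := exists_fibProj_fiber_iso f g x y'
      let u := ε.inv v
      have hu : π.fiberι y' u = w := by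
        refine (p1.fiberι x).isEmbedding.injective ?_
        rw [← hvw]
        have := congrArg (fun φ : π.fiber y' ⟶ pullback f g => φ u) hε
        simp only [Scheme.Hom.comp_apply] at this
        rw [← this]
        exact congrArg _ (Scheme.Hom.comp_apply ε.inv ε.hom v ▸ by rw [ε.inv_hom_id]; rfl)
      rw [← hu, hfg]
      refine ⟨hy', (mem_ass_congr (Twist.pullbackUnitIso ε.hom) u).1 ((AssPts11.mem_ass_pullback_iff ε.hom u _).2 ?_)⟩
      have : ε.hom u = v := by
        change (ε.inv ≫ ε.hom) v = v
        rw [ε.inv_hom_id]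
        rfl
      exact this.symm ▸ hv
  constructor
  · intro hz
    obtain ⟨hxF, hw⟩ := (mem_ass_tensor_iff' p1 F _ hflat z).1 hz
    obtain ⟨y', hy', hmem⟩ := (key (p1 z) (p1.asFiber z)).1 hw
    rw [p1.fiberι_asFiber] at hmem
    exact ⟨p1 z, hxF, y', hy', hmem⟩
  · rintro ⟨x, hxF, y', hy', v, hv, rfl⟩
    obtain ⟨w, hw⟩ : resMapP f g x (g.fiberι (f x) y') v ∈ Set.range (p1.fiberι x) := by
      refine (Scheme.Hom.range_fiberι p1 x).ge ?_
      change p1 (resMapP f g x _ v) = x
      rw [← Scheme.Hom.comp_apply, pullback.lift_fst, Scheme.Hom.comp_apply, Scheme.fromSpecResidueField_apply]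
    rw [← hw, mem_ass_tensor_iff p1 F _ hflat x w (IsNoetherian.noetherian _) (IsNoetherian.noetherian _)]
    exact ⟨hxF, (key x w).2 ⟨y', hy', v, hv, hw.symm⟩⟩

end Groth.Agent.AssFlat15
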